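import Cfsg.Agent.LocalEvenBasic.RankOneP.Tools
import Cfsg.Agent.PSL2Borel.Basic

/-!
# `SL(2, q)` and `PSL(2, q)` in characteristic `p ≥ 5`
-/

set_option autoImplicit false
set_option linter.unusedSectionVars false

namespace CfsgLib.RankOneP

open CfsgLib.LocalEven50 CfsgLib.PSL2Borel
open scoped MatrixGroups Pointwise

theorem upper_val {F : Type*} [Field F] (t : Multiplicative F) :
    ((upperHom F t : SL(2, F)) : Matrix (Fin 2) (Fin 2) F) = !![1, t.toAdd; 0, 1] := rfl

theorem lower_val {F : Type*} [Field F] (t : Multiplicative F) :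
    ((lowerHom F t : SL(2, F)) : Matrix (Fin 2) (Fin 2) F) = !![1, 0; t.toAdd, 1] := rfl

variable {p : ℕ} [Fact p.Prime] {F : Type*} [Field F] [Finite F] [CharP F p]

theorem isPGroup_range_hom {H : Type*} [Group H] (f : Multiplicative F →* H) :
    IsPGroup p f.range := by
  rintro ⟨_, t, rfl⟩
  refine ⟨1, Subtype.ext ?_⟩
  show f t ^ p ^ 1 = 1
  rw [pow_one, ← map_pow, show t ^ p = 1 from
    Multiplicative.toAdd.injective (by simp [nsmul_eq_mul]), map_one]

theorem mem_range_upper {g : SL(2, F)} (hc : (g : Matrix (Fin 2) (Fin 2) F) 1 0 = 0)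
    (ha : (g : Matrix (Fin 2) (Fin 2) F) 0 0 = 1) : g ∈ (upperHom F).range := by
  refine ⟨.ofAdd ((g : Matrix (Fin 2) (Fin 2) F) 0 1), Subtype.ext ?_⟩
  have hdet := g.2
  rw [Matrix.det_fin_two, hc, ha] at hdet
  simp only [one_mul, mul_zero, sub_zero] at hdet
  show !![1, _; 0, 1] = _
  conv_rhs => rw [Matrix.eta_fin_two (g : Matrix (Fin 2) (Fin 2) F), hc, ha, hdet]
  rfl

/-- The data for `SL(2, q)`. -/
theorem data_SL (hp : 5 ≤ p) : RankOneData p SL(2, F) := by
  classical
  haveI := Fintype.ofFinite F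
  have hpp : p.Prime := Fact.out
  have hinjU : Function.Injective (upperHom F) := fun s t h => by
    have h1 := congrFun (congrFun (congrArg Subtype.val h) 0) 1
    simpa [upper_val] using h1
  have hinjL : Function.Injective (lowerHom F) := fun s t h => by
    have h1 := congrFun (congrFun (congrArg Subtype.val h) 1) 0
    simpa [lower_val] using h1
  -- elements normalising the upper root group are upper triangular
  have hborel : ∀ g ∈ Subgroup.normalizer ((upperHom F).range : Set SL(2, F)),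
      (g : Matrix (Fin 2) (Fin 2) F) 1 0 = 0 := by
    intro g hg
    obtain ⟨s, hs⟩ := (Subgroup.mem_normalizer_iff.1 hg (upperHom F (.ofAdd 1))).1 ⟨_, rfl⟩
    have h1 : upperHom F s * g = g * upperHom F (.ofAdd 1) := by rw [hs]; group
    have h2 : ((upperHom F s * g : SL(2, F)) : Matrix (Fin 2) (Fin 2) F) 1 1 =
        ((g * upperHom F (.ofAdd 1) : SL(2, F)) : Matrix (Fin 2) (Fin 2) F) 1 1 := by rw [h1]
    simpa [upper_val, Matrix.mul_apply, Fin.sum_univ_two] using h2.symm
  obtain ⟨U, hU⟩ := exists_sylow_eq (upperHom F).range (isPGroup_range_hom _) fun g hg n hn => by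
    have hc := hborel g hg
    refine mem_range_upper hc (field_eq_one (p := p) (n := n) ?_)
    have h00 : ∀ m : ℕ, ((g ^ m : SL(2, F)) : Matrix (Fin 2) (Fin 2) F) 0 0 =
        (g : Matrix (Fin 2) (Fin 2) F) 0 0 ^ m := by
      intro m
      induction m with
      | zero => simp
      | succ m ih =>
        rw [pow_succ, Matrix.SpecialLinearGroup.coe_mul, Matrix.mul_apply, Fin.sum_univ_two, hc,
          mul_zero, add_zero, ih, ← pow_succ]
    rw [← h00, hn]
    simp
  let g0 : SL(2, F) := ⟨!![0, -1; 1, 0], by simp [Matrix.det_fin_two]⟩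
  -- the conjugates outside `U`
  have hcard : Nat.card (lowerHom F).range = Nat.card (upperHom F).range := by
    rw [← Nat.card_congr (MonoidHom.ofInjective hinjL).toEquiv,
      ← Nat.card_congr (MonoidHom.ofInjective hinjU).toEquiv]
  have hlow : ∀ g : SL(2, F), (g : Matrix (Fin 2) (Fin 2) F) 1 0 ≠ 0 →
      ∃ x, (((upperHom F x * g) • U : Sylow p SL(2, F)) : Subgroup SL(2, F)) =
        (lowerHom F).range := by
    intro g hc
    refine ⟨.ofAdd (-((g : Matrix (Fin 2) (Fin 2) F) 0 0 / (g : Matrix (Fin 2) (Fin 2) F) 1 0)),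
      (Subgroup.eq_of_le_of_card_ge ?_ ?_).symm⟩
    · rintro _ ⟨s, rfl⟩
      have h := conj_upper_eq_lower F g hc s.toAdd
      rw [Sylow.coe_subgroup_smul, Subgroup.mem_pointwise_smul_iff_inv_smul_mem, hU]
      refine ⟨.ofAdd (-s.toAdd / ((g : Matrix (Fin 2) (Fin 2) F) 1 0 *
        (g : Matrix (Fin 2) (Fin 2) F) 1 0)), ?_⟩
      rw [ofAdd_toAdd] at h
      simp only [MulAut.smul_def, MulAut.conj_inv_apply]
      rw [mul_assoc (upperHom F _ * g)⁻¹]
      rw [← mul_assoc (lowerHom F s), ← h, inv_mul_cancel_left]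
    · rw [hcard, ← hU]
      exact le_of_eq (Nat.card_congr (Sylow.equiv _ _).toEquiv)
  obtain ⟨x0, hQ⟩ := hlow g0 (by simp [g0])
  set Q : Sylow p SL(2, F) := (upperHom F x0 * g0) • U with hQdef
  have hbU : ∀ g : SL(2, F), (g : Matrix (Fin 2) (Fin 2) F) 1 0 = 0 → g • U = U := by
    intro g hc
    refine Sylow.ext (Subgroup.eq_of_le_of_card_ge ?_ (le_of_eq (Nat.card_congr (Sylow.equiv _ _).toEquiv)))
    intro y hy
    rw [Sylow.coe_subgroup_smul, Subgroup.mem_pointwise_smul_iff_inv_smul_mem, hU] at hy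
    obtain ⟨t, ht⟩ := hy
    simp only [MulAut.smul_def, MulAut.conj_inv_apply] at ht
    have h := conj_upper_of_borel F g hc t.toAdd
    rw [ofAdd_toAdd, ht] at h
    rw [hU]
    refine ⟨_, mul_right_cancel (h.symm.trans ?_)⟩
    group
  have hQU : Q ≠ U := by
    intro e
    rw [e, hU] at hQ
    obtain ⟨s, hs⟩ : lowerHom F (.ofAdd 1) ∈ (upperHom F).range := by rw [hQ]; exact ⟨_, rfl⟩
    have := congrFun (congrFun (congrArg Subtype.val hs) 1) 0
    simp [upper_val, lower_val] at this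
  have h2 : (2 : F) ≠ 0 := fun h => by
    have h' : ((2 : ℕ) : F) = 0 := by exact_mod_cast h
    exact absurd (Nat.le_of_dvd two_pos ((CharP.cast_eq_zero_iff F p 2).1 h')) (by omega)
  let b : SL(2, F) := ⟨!![2, 0; 0, 2⁻¹], by simp [Matrix.det_fin_two, h2]⟩
  have hcop3 : (3 : ℕ).Coprime p :=
    (Nat.coprime_primes Nat.prime_three hpp).2 (by omega)
  refine RankOneData.of_one ?_ U ⟨Q, hQU, ?_, ?_, b, hbU b (by simp [b]), ?_, 4, ?_, ?_⟩
  · have hord : ∀ {g : SL(2, F)}, g ^ p = 1 → ∃ k : ℕ, orderOf g = p ^ k := fun {g} h => by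
      obtain ⟨k, -, hk⟩ := (Nat.dvd_prime_pow hpp).1
        (orderOf_dvd_of_pow_eq_one (n := p ^ 1) (by rwa [pow_one]))
      exact ⟨k, hk⟩
    have hpow : ∀ t : Multiplicative F, t ^ p = 1 := fun t =>
      Multiplicative.toAdd.injective (by simp [nsmul_eq_mul])
    rw [eq_top_iff]
    intro g _
    exact closure_upper_lower F _
      (fun t => Subgroup.subset_closure (hord (by rw [← map_pow, hpow, map_one])))
      (fun t => Subgroup.subset_closure (hord (by rw [← map_pow, hpow, map_one]))) g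
  · intro Q' hQ'
    obtain ⟨g, rfl⟩ := MulAction.exists_smul_eq SL(2, F) U Q'
    have hc : (g : Matrix (Fin 2) (Fin 2) F) 1 0 ≠ 0 := fun e => hQ' (hbU g e)
    obtain ⟨x, hx⟩ := hlow g hc
    refine ⟨(upperHom F x)⁻¹, inv_mem (hU ▸ ⟨x, rfl⟩), ?_⟩
    rw [show Q = (upperHom F x * g) • U from Sylow.ext (hQ.trans hx.symm), mul_smul, inv_smul_smul]
  · intro u hu hfix
    rw [hU] at hu
    obtain ⟨t, rfl⟩ := hu
    have h : MulAut.conj (upperHom F t) • lowerHom F (.ofAdd 1) ∈ (lowerHom F).range := by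
      have hm := Subgroup.smul_mem_pointwise_smul (lowerHom F (.ofAdd 1))
        (MulAut.conj (upperHom F t)) (Q : Subgroup SL(2, F)) (hQ ▸ ⟨_, rfl⟩)
      rw [← Sylow.coe_subgroup_smul, hfix, hQ] at hm
      exact hm
    obtain ⟨s, hs⟩ := h
    simp only [MulAut.smul_def, MulAut.conj_apply, ← map_inv] at hs
    have h00 := congrFun (congrFun (congrArg Subtype.val hs) 0) 0
    simp [upper_val, lower_val, Matrix.mul_apply, Fin.sum_univ_two] at h00
    have ht : t = 1 := Multiplicative.toAdd.injective (by rw [toAdd_one]; exact h00)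
    rw [ht, map_one]
  · refine Sylow.ext (Subgroup.eq_of_le_of_card_ge ?_ (le_of_eq (Nat.card_congr (Sylow.equiv _ _).toEquiv)))
    intro y hy
    rw [Sylow.coe_subgroup_smul, Subgroup.mem_pointwise_smul_iff_inv_smul_mem, hQ] at hy
    obtain ⟨s, hs⟩ := hy
    simp only [MulAut.smul_def, MulAut.conj_inv_apply] at hs
    rw [hQ]
    refine ⟨.ofAdd (s.toAdd * (2⁻¹ * 2⁻¹)), ?_⟩
    rw [show y = b * lowerHom F s * b⁻¹ by rw [hs]; group, eq_mul_inv_iff_mul_eq]
    apply Subtype.ext
    show !![1, 0; _, 1] * !![(2 : F), 0; 0, 2⁻¹] = !![(2 : F), 0; 0, 2⁻¹] * !![1, 0; _, 1]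
    ext i j
    fin_cases i <;> fin_cases j <;> simp [Matrix.mul_apply, Fin.sum_univ_two]
    field_simp
  · intro v hv
    have hv' := hv.1
    rw [hU] at hv'
    obtain ⟨t, rfl⟩ := hv'
    refine ⟨?_, fun e => ?_⟩
    · have h := conj_upper_of_borel F b (by simp [b]) t.toAdd
      rw [ofAdd_toAdd] at h
      rw [h, mul_inv_cancel_right, ← map_pow]
      congr 1
      apply Multiplicative.toAdd.injective
      rw [toAdd_ofAdd, toAdd_pow, nsmul_eq_mul]
      show (2 : F) * 2 * _ = _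
      push_cast
      ring
    · exact eq_one_of_pow_eq_self (k := 3) hcop3 (n := 1)
        (by rw [pow_one, ← map_pow, show t ^ p = 1 from
          Multiplicative.toAdd.injective (by simp [nsmul_eq_mul]), map_one]) e
  · intro u hu _
    refine ⟨hu, fun w hw => ?_⟩
    rw [hU] at hu hw
    obtain ⟨t, rfl⟩ := hu
    obtain ⟨s, rfl⟩ := hw
    rw [← map_mul, ← map_mul, mul_comm]

/-- The data for `PSL(2, q)`. -/
theorem data_PSL (hp : 5 ≤ p) :
    RankOneData p (Matrix.ProjectiveSpecialLinearGroup (Fin 2) F) := by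
  refine (data_SL (F := F) hp).map (f := QuotientGroup.mk' (Subgroup.center SL(2, F)))
    (QuotientGroup.mk'_surjective _) (by rw [QuotientGroup.ker_mk']) ?_
  rw [QuotientGroup.ker_mk']
  haveI : Fact (Nat.Prime 2) := ⟨Nat.prime_two⟩
  have h2 : IsPGroup 2 ↥(Subgroup.center SL(2, F)) := fun x => ⟨1, Subtype.ext (by
    obtain ⟨r, hr, hrx⟩ := Matrix.SpecialLinearGroup.mem_center_iff.1 x.2
    rw [Fintype.card_fin] at hr
    apply Subtype.ext
    rw [pow_one, SubmonoidClass.coe_pow, Matrix.SpecialLinearGroup.coe_pow, ← hrx, ← map_pow, hr]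
    simp)⟩
  obtain ⟨n, hn⟩ := IsPGroup.iff_card.1 h2
  rw [hn]
  exact ((Nat.coprime_primes Nat.prime_two Fact.out).2 (by omega)).pow_left n

end CfsgLib.RankOneP
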