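import Cfsg.Agent.LocalEvenBasic.RankOneP.Tools
import Cfsg.Agent.Forms.UnitaryTransvections
import Cfsg.Agent.Forms4.UnitaryCenter

/-!
# `SU(3, q)` and `PSU(3, q)` in characteristic `p ≥ 5`
-/

set_option autoImplicit false
set_option linter.unusedSectionVars false

namespace CfsgLib.RankOneP

open CfsgLib.RepBounds.Unit Matrix
open scoped Pointwise

variable {p : ℕ} [Fact p.Prime] {F : Type*} [Field F] [Fintype F] [CharP F p]
  (C : ConjField F)

/-- The stabiliser of the isotropic vector `vE`. -/
def stabE : Subgroup (suG C (Fin 2 ⊕ Fin 1)) where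
  carrier := {g | app C g (vE C (Fin 1)) = vE C (Fin 1)}
  one_mem' := app_one C _
  mul_mem' {a b} ha hb := by
    show app C (a * b) _ = _
    rw [app_mul, show app C b (vE C (Fin 1)) = _ from hb]
    exact ha
  inv_mem' {a} ha := by
    show app C a⁻¹ _ = _
    conv_lhs => rw [← show app C a (vE C (Fin 1)) = _ from ha]
    rw [app_inv_app]

theorem mem_stabE {g : suG C (Fin 2 ⊕ Fin 1)} :
    g ∈ stabE C ↔ app C g (vE C (Fin 1)) = vE C (Fin 1) := Iff.rfl

theorem exists_uniEl {g : suG C (Fin 2 ⊕ Fin 1)} (hg : g ∈ stabE C) :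
    ∃ (w : Fin 1 → F) (c : F) (hc : c + C.σ c + herm C w w = 0), g = uniEl C w c hc := by
  obtain ⟨w, c, hc, g', rfl⟩ := exists_eq_uniEl_mul C g hg
  exact ⟨w, c, hc, by rw [eq_one_of_subsingleton C g', map_one, mul_one]⟩

theorem uniEl_mem (w : Fin 1 → F) (c : F) (hc : c + C.σ c + herm C w w = 0) :
    uniEl C w c hc ∈ stabE C :=
  app_uniEl_vE C w c hc

/-- An element fixing `vE` is determined by the image of `vF`. -/
theorem stabE_ext {g h : suG C (Fin 2 ⊕ Fin 1)} (hg : g ∈ stabE C) (hh : h ∈ stabE C)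
    (he : app C g (vF C (Fin 1)) = app C h (vF C (Fin 1))) : g = h := by
  obtain ⟨g', hg'⟩ := exists_eq_blockHom C (h⁻¹ * g) ((stabE C).mul_mem ((stabE C).inv_mem hh) hg)
    (by rw [app_mul, he, app_inv_app])
  rw [eq_one_of_subsingleton C g', map_one, inv_mul_eq_one] at hg'
  exact hg'.symm

theorem pow_prime_app {g : suG C (Fin 2 ⊕ Fin 1)} (hp : 3 ≤ p)
    (h : ∀ x, app C g (app C g (app C g x)) - (3 : F) • app C g (app C g x) +
      (3 : F) • app C g x - x = 0) : g ^ p = 1 := by
  apply Subtype.ext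
  apply Subtype.ext
  have hM : (g.1.1 - 1) ^ 3 = 0 := by
    refine Matrix.ext_iff_mulVec.2 fun x => ?_
    have h1 := h x
    rw [pow_succ, pow_two, ← Matrix.mulVec_mulVec, ← Matrix.mulVec_mulVec, Matrix.zero_mulVec]
    simp only [Matrix.sub_mulVec, Matrix.one_mulVec, Matrix.mulVec_sub]
    rw [← h1]
    simp only [app]
    module
  rw [SubmonoidClass.coe_pow, Matrix.SpecialLinearGroup.coe_pow]
  exact pow_prime_eq_one hp _ hM

theorem uniEl_pow (hp : 3 ≤ p) (w : Fin 1 → F) (c : F) (hc : c + C.σ c + herm C w w = 0) :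
    uniEl C w c hc ^ p = 1 := by
  refine pow_prime_app C hp fun x => ?_
  simp only [app_uniEl, herm_add_left, herm_sub_left, herm_smul_left, herm_vE_vE, herm_inW_vE,
    herm_vE_inW, herm_inW]
  module

theorem transv_pow (hp : 3 ≤ p) {g : suG C (Fin 2 ⊕ Fin 1)} {v : Fin 2 ⊕ Fin 1 → F} {c : F}
    (hv : herm C v v = 0) (h : IsTransv C g v c) : g ^ p = 1 := by
  refine pow_prime_app C hp fun x => ?_
  simp only [h _, herm_add_left, herm_sub_left, herm_smul_left, hv]
  module

/-- The fixed vectors of the stabiliser are the multiples of `vE`. -/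
theorem fixed_stabE {x : Fin 2 ⊕ Fin 1 → F} (h : ∀ u ∈ stabE C, app C u x = x) :
    x = herm C x (vF C (Fin 1)) • vE C (Fin 1) := by
  have hne : vE C (Fin 1) ≠ 0 := fun e => by
    have := congrFun e (Sum.inl 0)
    simp [vE] at this
  have hxe : herm C x (vE C (Fin 1)) = 0 := by
    obtain ⟨d, hd, hd0⟩ := C.exists_skew_ne
    have h1 := h _ (uniEl_mem C 0 d (skew_valid C hd))
    rw [app_uniEl, inW_zero, herm_zero_right, zero_smul, sub_zero, zero_add, add_eq_left,
      smul_smul, smul_eq_zero] at h1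
    rcases h1 with h1 | h1
    · exact (mul_eq_zero.1 h1).resolve_right hd0
    · exact absurd h1 hne
  have hxw : ∀ w : Fin 1 → F, herm C x (inW w) = 0 := by
    intro w
    have hc : -(herm C w w * tA C) + C.σ (-(herm C w w * tA C)) + herm C w w = 0 := by
      rw [map_neg, map_mul, herm_self_fixed]
      linear_combination (-herm C w w) * tA_spec C
    have h1 := h _ (uniEl_mem C w _ hc)
    rw [app_uniEl, hxe, zero_smul, add_zero, sub_eq_self, smul_eq_zero] at h1
    exact h1.resolve_right hne
  have hr : x ∘ Sum.inr = 0 := by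
    funext i
    have h1 := hxw (Pi.single i 1)
    simpa [herm, inW, Fintype.sum_sum_type, Pi.single_apply, Fin.fin_one_eq_zero i] using h1
  conv_lhs => rw [decomp C x, hxe, hr, zero_smul, inW_zero, add_zero, add_zero]

theorem mem_smul_stabE {U : Sylow p (suG C (Fin 2 ⊕ Fin 1))}
    (hU : (U : Subgroup (suG C (Fin 2 ⊕ Fin 1))) = stabE C) (g x : suG C (Fin 2 ⊕ Fin 1)) :
    x ∈ ((g • U : Sylow p (suG C (Fin 2 ⊕ Fin 1))) : Subgroup (suG C (Fin 2 ⊕ Fin 1))) ↔
      app C x (app C g (vE C (Fin 1))) = app C g (vE C (Fin 1)) := by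
  rw [Sylow.coe_subgroup_smul, Subgroup.mem_pointwise_smul_iff_inv_smul_mem, hU, mem_stabE]
  simp only [MulAut.smul_def, MulAut.conj_inv_apply]
  rw [app_mul, app_mul]
  constructor
  · intro h
    conv_rhs => rw [← h]
    rw [app_app_inv]
  · intro h
    rw [h, app_inv_app]

/-- The data for `SU(3, q)` in hyperbolic coordinates. -/
theorem data_suG (hp : 5 ≤ p) : RankOneData p (suG C (Fin 2 ⊕ Fin 1)) := by
  classical
  have hpp : p.Prime := Fact.out
  set e := vE C (Fin 1) with he
  set f := vF C (Fin 1) with hf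
  have hne : e ≠ 0 := fun h => by
    have := congrFun h (Sum.inl 0)
    simp [he, vE] at this
  have hpG : IsPGroup p (stabE C) := fun u => by
    obtain ⟨w, c, hc, hu⟩ := exists_uniEl C u.2
    refine ⟨1, Subtype.ext ?_⟩
    rw [SubmonoidClass.coe_pow, hu, pow_one]
    exact uniEl_pow C (by omega) w c hc
  obtain ⟨U, hU⟩ := exists_sylow_eq (stabE C) hpG fun g hg n hn => by
    have hge := fixed_stabE C (x := app C g e) fun u hu => by
      have h := (Subgroup.mem_normalizer_iff.1 (inv_mem hg) u).1 hu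
      rw [inv_inv, mem_stabE, app_mul, app_mul] at h
      rw [← app_app_inv C g (app C u (app C g e)), h]
    set a := herm C (app C g e) f with ha
    have hpow : ∀ m : ℕ, app C (g ^ m) e = a ^ m • e := by
      intro m
      induction m with
      | zero => rw [pow_zero, pow_zero, one_smul, app_one]
      | succ m ih => rw [pow_succ, app_mul, hge, app_smul, ih, smul_smul, ← pow_succ']
    have h1 := hpow (p ^ n)
    rw [hn, app_one] at h1
    have ha1 : a ^ p ^ n = 1 := by
      have h2 : (a ^ p ^ n - 1) • e = 0 := by rw [sub_smul, ← h1, one_smul, sub_self]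
      exact sub_eq_zero.1 ((smul_eq_zero.1 h2).resolve_right hne)
    rw [mem_stabE, ← he, hge, field_eq_one (p := p) ha1, one_smul]
  obtain ⟨t0, -, ht0⟩ := exists_to_vE C (x := f) (herm_vF_vF C) (fun h => by
    have := herm_vF_vE C (κ := Fin 1)
    rw [← hf, h, herm_zero_left] at this
    exact zero_ne_one this)
  have hg0 : app C t0⁻¹ e = f := by rw [he, ← ht0, app_inv_app]
  set Q := t0⁻¹ • U with hQdef
  have hQmem : ∀ x, x ∈ (Q : Subgroup (suG C (Fin 2 ⊕ Fin 1))) ↔ app C x f = f := fun x => by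
    rw [hQdef, mem_smul_stabE C hU, ← he, hg0]
  have hQU : Q ≠ U := by
    intro h
    obtain ⟨d, hd, hd0⟩ := C.exists_skew_ne
    have h1 : uniEl C (0 : Fin 1 → F) d (skew_valid C hd) ∈
        (Q : Subgroup (suG C (Fin 2 ⊕ Fin 1))) := by rw [h, hU]; exact uniEl_mem C _ _ _
    rw [hQmem, hf, app_uniEl_vF, inW_zero, add_zero, add_eq_left, smul_eq_zero] at h1
    exact h1.elim hd0 hne
  have htwo : ((2 : ℕ) : F) ≠ 0 := fun h =>
    absurd (Nat.le_of_dvd two_pos ((CharP.cast_eq_zero_iff F p 2).1 h)) (by omega)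
  rw [Nat.cast_ofNat] at htwo
  set b := torEl C (0 : Fin 1) (Units.mk0 (2 : F) htwo) with hb
  have hσ2 : C.σ (2 : F) = 2 := map_ofNat C.σ 2
  have hbe : app C b e = (2 : F) • e := by rw [hb, he, app_torEl_vE, Units.val_mk0]
  have hbf : app C b f = (2 : F)⁻¹ • f := by
    show torMat C 0 _ *ᵥ f = _
    rw [torMat_mulVec, hf, herm_vF_vF, herm_vF_vE, herm_vF_inW, Units.val_mk0, hσ2]
    simp only [mul_zero, zero_smul, add_zero, mul_one, sub_smul, one_smul]
    abel
  have hbw : ∀ w : Fin 1 → F, app C b (inW w) = inW w := by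
    intro w
    show torMat C 0 _ *ᵥ inW w = _
    rw [torMat_mulVec, herm_inW_vF, herm_inW_vE, Units.val_mk0, hσ2, div_self htwo]
    simp
  have hbfix : ∀ (y : Fin 2 ⊕ Fin 1 → F) (a : F), a ≠ 0 → app C b y = a • y →
      ∀ x : suG C (Fin 2 ⊕ Fin 1), (app C (b⁻¹ * x * b) y = y ↔ app C x y = y) := by
    intro y a ha hy x
    have hinv : app C b⁻¹ y = a⁻¹ • y := by
      conv_lhs => rw [← inv_smul_smul₀ ha y, ← hy]
      rw [app_smul, app_inv_app]
    rw [app_mul, app_mul, hy, app_smul, app_smul]
    constructor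
    · intro h
      have h2 := congrArg (app C b) h
      rw [app_smul, app_app_inv, hy] at h2
      exact smul_right_injective _ ha h2
    · intro h
      rw [h, hinv, smul_smul, mul_inv_cancel₀ ha, one_smul]
  have hbU : b • U = U := by
    refine Sylow.ext (SetLike.ext fun x => ?_)
    rw [mem_smul_stabE C hU, hU, mem_stabE, ← he, hbe, app_smul]
    exact (smul_right_injective _ htwo).eq_iff
  have hbQ : b • Q = Q := by
    refine Sylow.ext (SetLike.ext fun x => ?_)
    rw [hQdef, ← mul_smul, mem_smul_stabE C hU, ← hQdef, hQmem, app_mul, ← he, hg0, hbf, app_smul]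
    exact (smul_right_injective _ (inv_ne_zero htwo)).eq_iff
  -- conjugation by `b` on `U`
  have hconj : ∀ (w : Fin 1 → F) (c : F) (hc : c + C.σ c + herm C w w = 0),
      app C (b * uniEl C w c hc * b⁻¹) f = f + inW ((2 : F) • w) + (4 * c) • e := by
    intro w c hc
    have hinv : app C b⁻¹ f = (2 : F) • f := by
      conv_lhs => rw [← smul_inv_smul₀ htwo f, ← hbf]
      rw [app_smul, app_inv_app]
    rw [app_mul, app_mul, hinv, app_smul, app_smul, hf, app_uniEl_vF, app_add, app_add, app_smul,
      ← hf, ← he, hbe, hbf, hbw, inW_smul, smul_add, smul_add, smul_inv_smul₀ htwo, smul_smul,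
      smul_smul]
    congr 2
    ring
  have hcent : ∀ {u : suG C (Fin 2 ⊕ Fin 1)},
      CentralIn (U : Subgroup (suG C (Fin 2 ⊕ Fin 1))) u ↔
        ∃ (c : F) (hc : c ∈ C.skew), u = uniEl C (0 : Fin 1 → F) c (skew_valid C hc) := by
    intro u
    constructor
    · rintro ⟨hu, hcom⟩
      rw [hU] at hu
      obtain ⟨w, c, hc, rfl⟩ := exists_uniEl C hu
      have hw : w = 0 := by
        have hall : ∀ w' : Fin 1 → F, herm C w' w = herm C w w' := by
          intro w'
          have hc' : -(herm C w' w' * tA C) + C.σ (-(herm C w' w' * tA C)) + herm C w' w' = 0 := by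
            rw [map_neg, map_mul, herm_self_fixed]
            linear_combination (-herm C w' w') * tA_spec C
          have h1 := hcom _ (by rw [hU]; exact uniEl_mem C w' _ hc')
          rw [uniEl_mul, uniEl_mul] at h1
          have h2 := congrArg (fun g => herm C (app C g (vF C (Fin 1))) (vF C (Fin 1))) h1
          simp only [app_uniEl_vF, herm_add_left, herm_smul_left, herm_inW_vF, herm_vF_vF,
            herm_vE_vF, mul_one] at h2
          linear_combination (-1 : F) * h2
        obtain ⟨s, hs⟩ : ∃ s, C.σ s ≠ s := by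
          by_contra h
          push Not at h
          exact C.ne_id (RingHom.ext h)
        have h1 := hall (Pi.single 0 1)
        have h2 := hall (Pi.single 0 s)
        simp [herm, Pi.single_apply] at h1 h2
        funext i
        rw [Fin.fin_one_eq_zero i]
        rw [h1] at h2
        have h3 : w 0 * (C.σ s - s) = 0 := by linear_combination (-1 : F) * h2
        exact (mul_eq_zero.1 h3).resolve_right (sub_ne_zero.2 hs)
      subst hw
      exact ⟨c, by simpa [ConjField.mem_skew, herm_zero_left] using hc, rfl⟩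
    · rintro ⟨c, hc, rfl⟩
      refine ⟨by rw [hU]; exact uniEl_mem C _ _ _, fun v hv => ?_⟩
      rw [hU] at hv
      obtain ⟨w', c', hc', rfl⟩ := exists_uniEl C hv
      exact (uniEl_comm_central C w' c' c hc' hc).symm
  have hcop3 : (3 : ℕ).Coprime p := (Nat.coprime_primes Nat.prime_three hpp).2 (by omega)
  have hq2 : ¬ (Fintype.card (Fin 2 ⊕ Fin 1) = 3 ∧ C.q = 2) := by
    rintro ⟨-, hq⟩
    obtain ⟨k, -, hk⟩ := FiniteField.card F p
    rw [C.card, hq] at hk
    have h4 : p ∣ 2 ^ 2 := by rw [hk]; exact dvd_pow_self p k.pos.ne'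
    exact absurd ((Nat.prime_dvd_prime_iff_eq hpp Nat.prime_two).1 (hpp.dvd_of_dvd_pow h4)) (by omega)
  refine RankOneData.of_one ?_ U ⟨Q, hQU, ?_, ?_, b, hbU, hbQ, 4, ?_, ?_⟩
  · rw [eq_top_iff, ← transvs_eq_top C hq2]
    refine (Subgroup.closure_le _).2 ?_
    rintro g ⟨v, c, hv, -, h⟩
    obtain ⟨k, -, hk⟩ := (Nat.dvd_prime_pow hpp).1
      (orderOf_dvd_of_pow_eq_one (n := p ^ 1) (by rw [pow_one]; exact transv_pow C (by omega) hv h))
    exact Subgroup.subset_closure ⟨k, hk⟩
  · intro Q' hQ'
    obtain ⟨g, rfl⟩ := MulAction.exists_smul_eq (suG C (Fin 2 ⊕ Fin 1)) U Q'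
    set y := app C g e with hy
    have hyy : herm C y y = 0 := by rw [hy, herm_app, he, herm_vE_vE]
    have hyd := decomp C y
    have hye : herm C y e ≠ 0 := by
      intro h0
      apply hQ'
      rw [← he, h0, zero_smul, add_zero] at hyd
      have hw : y ∘ Sum.inr = 0 := by
        rw [hyd] at hyy
        simp only [herm_add_left, herm_add_right, herm_smul_left, herm_smul_right, he, herm_vE_vE,
          herm_vE_inW, herm_inW_vE, herm_inW, mul_zero, add_zero, zero_add] at hyy
        funext i
        rw [Fin.fin_one_eq_zero i]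
        simpa [herm] using hyy
      rw [hw, inW_zero, add_zero] at hyd
      set a := herm C y (vF C (Fin 1)) with ha
      have ha0 : a ≠ 0 := by
        intro h
        rw [h, zero_smul] at hyd
        apply hne
        rw [← app_inv_app C g e, ← hy, hyd]
        exact Matrix.mulVec_zero _
      refine Sylow.ext (SetLike.ext fun x => ?_)
      rw [mem_smul_stabE C hU, hU, mem_stabE, ← he, ← hy, hyd, app_smul]
      exact (smul_right_injective _ ha0).eq_iff
    set β := herm C y e with hβ
    set y' := β⁻¹ • y with hy'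
    set w := y' ∘ Sum.inr with hw
    set c := herm C y' (vF C (Fin 1)) with hc'
    have hd : y' = c • e + vF C (Fin 1) + inW w := by
      conv_lhs => rw [decomp C y']
      rw [show herm C y' (vE C (Fin 1)) = 1 by
        rw [hy', herm_smul_left, ← he, ← hβ, inv_mul_cancel₀ hye], one_smul]
    have hc : c + C.σ c + herm C w w = 0 := by
      have h0 : herm C y' y' = 0 := by rw [hy', herm_smul_left, herm_smul_right, hyy]; simp
      rw [hd] at h0
      simp only [he, herm_add_left, herm_add_right, herm_smul_left, herm_smul_right, herm_vE_vE,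
        herm_vE_vF, herm_vF_vE, herm_vF_vF, herm_vE_inW, herm_vF_inW, herm_inW_vE, herm_inW_vF,
        herm_inW] at h0
      linear_combination h0
    refine ⟨uniEl C w c hc, by rw [hU]; exact uniEl_mem C w c hc, ?_⟩
    refine Sylow.ext (SetLike.ext fun x => ?_)
    have huf : app C (uniEl C w c hc * t0⁻¹) e = y' := by
      rw [app_mul, hg0, hf, app_uniEl_vF, hd, ← he]; abel
    rw [hQdef, ← mul_smul, mem_smul_stabE C hU, mem_smul_stabE C hU, ← he, huf, ← hy, hy', app_smul]
    exact (smul_right_injective _ (inv_ne_zero hye)).eq_iff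
  · intro u hu hfix
    rw [hU] at hu
    obtain ⟨w, c, hc, rfl⟩ := exists_uniEl C hu
    set y := app C (uniEl C w c hc) f with hy
    have hyfix : ∀ x, x ∈ (Q : Subgroup (suG C (Fin 2 ⊕ Fin 1))) → app C x y = y := by
      intro x hx
      rw [← hfix, hQdef, ← mul_smul, mem_smul_stabE C hU, app_mul, ← he, hg0] at hx
      exact hx
    have h2 := fixed_stabE C (x := app C t0 y) fun v hv => by
      have := hyfix (t0⁻¹ * v * t0) ((hQmem _).2 (by
        rw [app_mul, app_mul, show app C t0 f = e from ht0, show app C v e = e from hv, hg0]))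
      rw [app_mul, app_mul] at this
      nth_rewrite 2 [← this]
      rw [app_app_inv]
    have h3 := congrArg (app C t0⁻¹) h2
    rw [app_inv_app, app_smul, ← he, hg0] at h3
    generalize herm C (app C t0 y) (vF C (Fin 1)) = a at h3
    have h3' := h3
    rw [hy, hf, app_uniEl_vF] at h3'
    have ha : a = 1 := by
      have := congrArg (fun z => herm C z (vE C (Fin 1))) h3'
      simp only [herm_add_left, herm_smul_left, herm_vF_vE, herm_inW_vE, herm_vE_vE, mul_zero,
        add_zero, mul_one] at this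
      exact this.symm
    refine stabE_ext C (uniEl_mem C w c hc) (stabE C).one_mem ?_
    rw [app_one, ← hf, ← hy, h3, ha, one_smul]
  · intro v hv
    obtain ⟨c, hc, rfl⟩ := hcent.1 hv
    have hpow : ∀ n : ℕ, app C (uniEl C (0 : Fin 1 → F) c (skew_valid C hc) ^ n) f =
        f + ((n : F) * c) • e := by
      intro n
      induction n with
      | zero => simp [app_one]
      | succ n ih =>
        rw [pow_succ', app_mul, ih, app_add, app_smul, hf, app_uniEl_vF, inW_zero, add_zero, he,
          app_uniEl_vE]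
        push_cast
        module
    refine ⟨stabE_ext C ?_ ((stabE C).pow_mem (uniEl_mem C _ _ _) 4) ?_, fun h => ?_⟩
    · have h := (Subgroup.mem_normalizer_iff.1 (Sylow.smul_eq_iff_mem_normalizer.1 hbU)
        (uniEl C (0 : Fin 1 → F) c (skew_valid C hc))).1 (hU ▸ uniEl_mem C _ _ _)
      exact hU ▸ h
    · rw [← hf, hconj, hpow, smul_zero, inW_zero, add_zero]
      norm_num
    · exact eq_one_of_pow_eq_self (k := 3) hcop3 (n := 1)
        (by rw [pow_one]; exact uniEl_pow C (by omega) _ _ _) h
  · intro u hu hcen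
    rw [hU] at hu
    obtain ⟨w, c, hc, rfl⟩ := exists_uniEl C hu
    obtain ⟨c2, hc2, h⟩ := hcent.1 hcen
    have h1 : b * uniEl C w c hc * b⁻¹ =
        uniEl C (0 : Fin 1 → F) c2 (skew_valid C hc2) * uniEl C w c hc := by
      rw [← h]; group
    have h2 := congrArg (fun g => (app C g f) ∘ Sum.inr) h1
    rw [hconj, app_mul] at h2
    simp only [hf, app_uniEl_vF] at h2
    rw [app_add, app_add, app_smul, app_uniEl_vF, he, app_uniEl_vE, app_uniEl C _ _ _ (inW w)] at h2
    simp [inW, vE, vF, herm_inW_vE, herm_zero_right, Function.comp_def] at h2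
    have hw : w = 0 := by
      funext i
      have h3 : (2 : F) * w i = w i := by simpa using congrFun h2 i
      rw [Pi.zero_apply]
      linear_combination h3
    subst hw
    exact hcent.2 ⟨c, by simpa [ConjField.mem_skew, herm_zero_left] using hc, rfl⟩

/-- The data for `SU(3, q)`. -/
theorem data_SU (hp : 5 ≤ p) {q : ℕ} (hF : Fintype.card F = q ^ 2) :
    RankOneData p ↥(Cfsg.SU 3 F q) := by
  obtain ⟨C, rfl⟩ := exists_conjField (F := F) q hF
  rw [← suG_fin_eq C]
  let e : Fin 2 ⊕ Fin 1 ≃ Fin 3 := finSumFinEquiv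
  have hinv : ∀ {ι κ : Type} [Fintype ι] [DecidableEq ι] [Fintype κ] [DecidableEq κ] (e : ι ≃ κ)
      (g : suG C ι), reindexHom C e.symm (reindexHom C e g) = g := fun e g => suG_ext C fun x => by
    rw [app_reindexHom, app_reindexHom]
    simp [Function.comp_def]
  refine (data_suG C hp).map (f := reindexHom C e) (fun g => ⟨reindexHom C e.symm g, ?_⟩) ?_ ?_
  · simpa using hinv e.symm g
  all_goals
    rw [(MonoidHom.ker_eq_bot_iff _).2 (Function.LeftInverse.injective
      (g := reindexHom C e.symm) (hinv e))]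
  · exact bot_le
  · rw [Subgroup.card_bot]; exact Nat.coprime_one_left p

/-- The data for `PSU(3, q)`. -/
theorem data_PSU (hp : 5 ≤ p) {q : ℕ} (hF : Fintype.card F = q ^ 2) :
    RankOneData p (Cfsg.PSU 3 F q) := by
  refine (data_SU (F := F) hp hF).map (f := QuotientGroup.mk' (Subgroup.center (Cfsg.SU 3 F q)))
    (QuotientGroup.mk'_surjective _) (by rw [QuotientGroup.ker_mk']) ?_
  rw [QuotientGroup.ker_mk']
  haveI : Fact (Nat.Prime 3) := ⟨Nat.prime_three⟩
  have h3 : IsPGroup 3 ↥(Subgroup.center (Cfsg.SU 3 F q)) := fun x => ⟨1, by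
    obtain ⟨r, hr⟩ := CfsgLib.Forms4.exists_scalar_of_mem_center hF (by omega) x.2
    have hdet := x.1.1.2
    rw [hr, Matrix.det_smul, Matrix.det_one, mul_one, Fintype.card_fin] at hdet
    refine Subtype.ext (Subtype.ext (Subtype.ext ?_))
    rw [pow_one, SubmonoidClass.coe_pow, SubmonoidClass.coe_pow, Matrix.SpecialLinearGroup.coe_pow,
      hr, smul_pow, one_pow, hdet, one_smul]
    rfl⟩
  obtain ⟨n, hn⟩ := IsPGroup.iff_card.1 h3
  rw [hn]
  exact ((Nat.coprime_primes Nat.prime_three Fact.out).2 (by omega)).pow_left n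

end CfsgLib.RankOneP
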