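import Mathlib
import Cfsg.Prelude.Def_Solvable
import Cfsg.Agent.LocalEvenBasic.SylowNormal
import Cfsg.Agent.Solvable.Fitting

/-!
# Rank one groups in their characteristic: no central `p`-element in the Sylow normaliser

`RankOneData p K`: the `p`-elements generate `K`; each Sylow `p`-subgroup `U` acts regularly on the
others, and some element of `N(U) ∩ N(Q)` acts on `Z(U)` as a power map without fixed points and
without fixed points on `U / Z(U)`.  If `K` is normal in `X` with `p`-power index and `O_p(X) = 1`,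
no nontrivial element of a Sylow subgroup `S` of `X` centralises `N_X(S)`.
-/

set_option autoImplicit false
set_option linter.unusedSectionVars false

namespace CfsgLib.RankOneP

open scoped Pointwise

variable {p : ℕ} [Fact p.Prime] {K : Type*} [Group K]

/-- `v` is an element of the centre of `U`. -/
def CentralIn (U : Subgroup K) (v : K) : Prop := v ∈ U ∧ ∀ u ∈ U, v * u = u * v

/-- The data at one Sylow subgroup. -/
def DataAt (U : Sylow p K) : Prop :=
  ∃ Q : Sylow p K, Q ≠ U ∧
    (∀ Q' : Sylow p K, Q' ≠ U → ∃ u ∈ (U : Subgroup K), u • Q = Q') ∧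
    (∀ u ∈ (U : Subgroup K), u • Q = Q → u = 1) ∧
    ∃ b : K, b • U = U ∧ b • Q = Q ∧ ∃ k : ℕ,
      (∀ v, CentralIn (U : Subgroup K) v → b * v * b⁻¹ = v ^ k ∧ (v ^ k = v → v = 1)) ∧
      ∀ u ∈ (U : Subgroup K), CentralIn (U : Subgroup K) (b * u * b⁻¹ * u⁻¹) →
        CentralIn (U : Subgroup K) u

/-- The data of a rank one group in characteristic `p`. -/
def RankOneData (p : ℕ) [Fact p.Prime] (K : Type*) [Group K] : Prop :=
  Subgroup.closure {x : K | ∃ k : ℕ, orderOf x = p ^ k} = ⊤ ∧ ∀ U : Sylow p K, DataAt U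

variable {K' : Type*} [Group K'] [Finite K]

theorem eq_one_of_mem_ker {f : K →* K'} (hcop : (Nat.card f.ker).Coprime p) {U : Subgroup K}
    (hU : IsPGroup p U) {x : K} (hx : x ∈ U) (hf : f x = 1) : x = 1 := by
  obtain ⟨n, hn⟩ := hU ⟨x, hx⟩
  have h1 : x ^ p ^ n = 1 := congrArg Subtype.val hn
  have h2 : orderOf x ∣ Nat.card f.ker :=
    Subgroup.orderOf_dvd_natCard _ (MonoidHom.mem_ker.2 hf)
  exact orderOf_eq_one_iff.1
    (Nat.eq_one_of_dvd_coprimes (hcop.pow_right n) h2 (orderOf_dvd_of_pow_eq_one h1))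

theorem mapSurjective_smul {f : K →* K'} (hf : Function.Surjective f) (g : K) (P : Sylow p K) :
    (g • P).mapSurjective hf = f g • P.mapSurjective hf := by
  refine Sylow.ext ?_
  rw [Sylow.coe_mapSurjective, Sylow.coe_subgroup_smul, Sylow.coe_subgroup_smul,
    Sylow.coe_mapSurjective]
  ext x
  simp only [Subgroup.mem_map, Subgroup.mem_pointwise_smul_iff_inv_smul_mem, MulAut.smul_def,
    MulAut.conj_inv_apply, MulAut.conj_apply, inv_inv, map_inv]
  constructor
  · rintro ⟨y, hy, rfl⟩
    exact ⟨g⁻¹ * y * g, hy, by simp⟩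
  · rintro ⟨y, hy, hyx⟩
    refine ⟨g * y * g⁻¹, by simpa [mul_assoc] using hy, ?_⟩
    rw [map_mul, map_mul, hyx, map_inv]
    group

theorem mapSurjective_injective {f : K →* K'} (hf : Function.Surjective f)
    (hker : f.ker ≤ Subgroup.center K) (hcop : (Nat.card f.ker).Coprime p) :
    Function.Injective (Sylow.mapSurjective hf : Sylow p K → Sylow p K') := by
  intro P Q h
  have h' : (P : Subgroup K).map f = (Q : Subgroup K).map f := congrArg (fun R : Sylow p K' => (R : Subgroup K')) h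
  refine Sylow.ext (Subgroup.eq_of_le_of_card_ge (fun x hx => ?_) ?_)
  · have hfx : f x ∈ (Q : Subgroup K).map f := h' ▸ Subgroup.mem_map_of_mem f hx
    obtain ⟨y, hy, hyx⟩ := Subgroup.mem_map.1 hfx
    have hm : y⁻¹ * x ∈ f.ker := by rw [MonoidHom.mem_ker, map_mul, map_inv, hyx, inv_mul_cancel]
    -- `y⁻¹ x` is central, so its order divides a power of `p`
    have hc : Commute y (y⁻¹ * x) := (Subgroup.mem_center_iff.1 (hker hm) y)
    obtain ⟨n, hn⟩ := P.2 ⟨x, hx⟩
    obtain ⟨m, hm'⟩ := Q.2 ⟨y, hy⟩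
    have hxn : x ^ p ^ (n + m) = 1 := by
      rw [pow_add, pow_mul, show x ^ p ^ n = 1 from congrArg Subtype.val hn, one_pow]
    have hyn : y ^ p ^ (n + m) = 1 := by
      rw [pow_add, mul_comm, pow_mul, show y ^ p ^ m = 1 from congrArg Subtype.val hm', one_pow]
    have : (y⁻¹ * x) ^ p ^ (n + m) = 1 := by
      have h1 := hc.mul_pow (p ^ (n + m))
      rw [mul_inv_cancel_left, hxn, hyn, one_mul] at h1
      exact h1.symm
    have h0 : y⁻¹ * x = 1 := orderOf_eq_one_iff.1
      (Nat.eq_one_of_dvd_coprimes (hcop.pow_right (n + m))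
        (Subgroup.orderOf_dvd_natCard _ hm) (orderOf_dvd_of_pow_eq_one this))
    rw [inv_mul_eq_one] at h0
    rwa [← h0]
  · exact le_of_eq (Nat.card_congr (Sylow.equiv Q P).toEquiv)

theorem DataAt.map {f : K →* K'} (hf : Function.Surjective f)
    (hker : f.ker ≤ Subgroup.center K) (hcop : (Nat.card f.ker).Coprime p) {U : Sylow p K}
    (h : DataAt U) : DataAt (U.mapSurjective hf) := by
  haveI : Finite K' := Finite.of_surjective f hf
  obtain ⟨Q, hQU, htr, hfree, b, hbU, hbQ, k, hk1, hk2⟩ := h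
  have hinj := mapSurjective_injective (p := p) hf hker hcop
  have hcen : ∀ {v : K}, v ∈ (U : Subgroup K) →
      CentralIn ((U.mapSurjective hf : Sylow p K') : Subgroup K') (f v) →
      CentralIn (U : Subgroup K) v := by
    intro v hv hfv
    refine ⟨hv, fun u hu => ?_⟩
    have h1 := hfv.2 (f u) (Subgroup.mem_map_of_mem f hu)
    have h2 : f ((u * v)⁻¹ * (v * u)) = 1 := by
      rw [map_mul, map_inv, map_mul, map_mul, h1, inv_mul_cancel]
    have h3 := eq_one_of_mem_ker hcop U.2
      (mul_mem (inv_mem (mul_mem hu hv)) (mul_mem hv hu)) h2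
    exact (inv_mul_eq_one.1 h3).symm
  have hcen' : ∀ {v : K}, CentralIn (U : Subgroup K) v →
      CentralIn ((U.mapSurjective hf : Sylow p K') : Subgroup K') (f v) := by
    intro v hv
    refine ⟨Subgroup.mem_map_of_mem f hv.1, ?_⟩
    rintro _ ⟨u, hu, rfl⟩
    rw [← map_mul, ← map_mul, hv.2 u hu]
  refine ⟨Q.mapSurjective hf, fun e => hQU (hinj e), ?_, ?_, f b, ?_, ?_, k, ?_, ?_⟩
  · intro Q' hQ'
    obtain ⟨Q₁, rfl⟩ := Sylow.mapSurjective_surjective hf p Q'
    obtain ⟨u, hu, rfl⟩ := htr Q₁ fun e => hQ' (by rw [e])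
    exact ⟨f u, Subgroup.mem_map_of_mem f hu, (mapSurjective_smul hf u Q).symm⟩
  · rintro _ ⟨u, hu, rfl⟩ h
    rw [← mapSurjective_smul] at h
    rw [hfree u hu (hinj h), map_one]
  · rw [← mapSurjective_smul, hbU]
  · rw [← mapSurjective_smul, hbQ]
  · intro v hv
    obtain ⟨w, hw, rfl⟩ := Subgroup.mem_map.1 hv.1
    obtain ⟨h1, h2⟩ := hk1 w (hcen hw hv)
    refine ⟨by rw [← map_inv, ← map_mul, ← map_mul, h1, map_pow], fun e => ?_⟩
    rw [h2 ?_, map_one]
    have h3 : f ((w ^ k)⁻¹ * w) = 1 := by rw [map_mul, map_inv, map_pow, e, inv_mul_cancel]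
    exact inv_mul_eq_one.1
      (eq_one_of_mem_ker hcop U.2 (mul_mem (inv_mem (pow_mem hw k)) hw) h3)
  · rintro _ ⟨u, hu, rfl⟩ hc
    have hbu : b * u * b⁻¹ * u⁻¹ ∈ (U : Subgroup K) := by
      refine mul_mem ?_ (inv_mem hu)
      exact (Subgroup.mem_normalizer_iff.1 (Sylow.smul_eq_iff_mem_normalizer.1 hbU) u).1 hu
    refine hcen' (hk2 u hu (hcen hbu ?_))
    simpa only [map_mul, map_inv] using hc

/-- One Sylow subgroup suffices. -/
theorem RankOneData.of_one (hgen : Subgroup.closure {x : K | ∃ k : ℕ, orderOf x = p ^ k} = ⊤)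
    (U : Sylow p K) (h : DataAt U) : RankOneData p K := by
  refine ⟨hgen, fun U' => ?_⟩
  obtain ⟨g, rfl⟩ := MulAction.exists_smul_eq K U U'
  have hsurj : Function.Surjective (MulAut.conj g).toMonoidHom := (MulAut.conj g).surjective
  have hk : (MulAut.conj g).toMonoidHom.ker = ⊥ :=
    (MonoidHom.ker_eq_bot_iff _).2 (MulAut.conj g).injective
  have h1 := h.map (f := (MulAut.conj g).toMonoidHom) hsurj (by rw [hk]; exact bot_le)
    (by rw [hk, Subgroup.card_bot]; exact Nat.coprime_one_left p)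
  have e : U.mapSurjective hsurj = g • U := by
    refine Sylow.ext ?_
    rw [Sylow.coe_mapSurjective, Sylow.coe_subgroup_smul]
    rfl
  rwa [e] at h1

/-- The data passes to quotients by central subgroups of order prime to `p`. -/
theorem RankOneData.map {f : K →* K'} (hf : Function.Surjective f)
    (hker : f.ker ≤ Subgroup.center K) (hcop : (Nat.card f.ker).Coprime p)
    (h : RankOneData p K) : RankOneData p K' := by
  refine ⟨?_, fun U' => ?_⟩
  · rw [eq_top_iff]
    rintro y -
    obtain ⟨x, rfl⟩ := hf y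
    have hx : x ∈ Subgroup.closure {x : K | ∃ k : ℕ, orderOf x = p ^ k} := by
      rw [h.1]; exact Subgroup.mem_top x
    induction hx using Subgroup.closure_induction with
    | mem a ha =>
      obtain ⟨k, hk⟩ := ha
      obtain ⟨j, -, hj⟩ :=
        (Nat.dvd_prime_pow (Fact.out : p.Prime)).1 (hk ▸ orderOf_map_dvd f a)
      exact Subgroup.subset_closure ⟨j, hj⟩
    | one => rw [map_one]; exact one_mem _
    | mul a b _ _ ha hb => rw [map_mul]; exact mul_mem ha hb
    | inv a _ ha => rw [map_inv]; exact inv_mem ha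
  · obtain ⟨U, rfl⟩ := Sylow.mapSurjective_surjective hf p U'
    exact (h.2 U).map hf hker hcop

/-- In a group `X` with `O_p(X) = 1` and a normal rank one subgroup of `p`-power index no
nontrivial `p`-element centralises the normaliser of a Sylow `p`-subgroup. -/
theorem RankOneData.eq_one {X : Type*} [Group X] [Finite X] (K : Subgroup X) [hKn : K.Normal]
    (hK : RankOneData p ↥K) (hidx : ∀ x : X, ∃ k : ℕ, x ^ p ^ k ∈ K)
    (hX : Cfsg.pCore p X = ⊥) (S : Sylow p X) {z : X} (hz : z ∈ (S : Subgroup X))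
    (hc : ∀ n ∈ Subgroup.normalizer ((S : Subgroup X) : Set X), n * z = z * n) : z = 1 := by
  classical
  obtain ⟨U, hUS⟩ := CfsgLib.LocalEvenBasic.exists_sylow_map_eq_inf S K
  have hmemU : ∀ v : K, v ∈ (U : Subgroup K) ↔ (v : X) ∈ (S : Subgroup X) := fun v => by
    refine ⟨fun h => ?_, fun h => ?_⟩
    · have h1 : (v : X) ∈ (U : Subgroup K).map K.subtype := Subgroup.mem_map_of_mem K.subtype h
      rw [hUS] at h1
      exact h1.1
    · have h1 : (v : X) ∈ (U : Subgroup K).map K.subtype := hUS ▸ ⟨h, v.2⟩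
      obtain ⟨w, hw, hwv⟩ := Subgroup.mem_map.1 h1
      rwa [← Subtype.ext (hwv : (w : X) = v)]
  have hzc : ∀ {s : X}, s ∈ (S : Subgroup X) → s * z = z * s :=
    fun hs => hc _ (Subgroup.le_normalizer hs)
  obtain ⟨Q, hQU, htr, hfree, b, hbU, hbQ, k, hk1, hk2⟩ := hK.2 U
  -- conjugation by elements of `X` on `K`
  let c : X → K ≃* K := fun x => MulAut.conjNormal x
  have hcv : ∀ (x : X) (v : K), ((c x v : K) : X) = x * v * x⁻¹ := fun x v => rfl
  let act : X → Sylow p K → Sylow p K := fun x P => P.mapSurjective (c x).surjective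
  have hact_mem : ∀ (x : X) (P : Sylow p K) (v : K),
      v ∈ (act x P : Subgroup K) ↔ (c x).symm v ∈ (P : Subgroup K) := fun x P v => by
    show v ∈ (P : Subgroup K).map (c x).toMonoidHom ↔ _
    exact Subgroup.mem_map_equiv
  have hcinv : ∀ (x : X) (v : K), (c x).symm v = c x⁻¹ v := fun x v => by
    apply (c x).injective
    rw [MulEquiv.apply_symm_apply]
    exact Subtype.ext (by rw [hcv, hcv]; group)
  have hact_mul : ∀ (x y : X) (P : Sylow p K), act (x * y) P = act x (act y P) := fun x y P => by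
    refine Sylow.ext (SetLike.ext fun v => ?_)
    rw [hact_mem, hact_mem, hact_mem, hcinv, hcinv, hcinv]
    have : c (x * y)⁻¹ v = c y⁻¹ (c x⁻¹ v) := Subtype.ext (by simp only [hcv]; group)
    rw [this]
  have hact_K : ∀ (g : K) (P : Sylow p K), act (g : X) P = g • P := fun g P => by
    refine Sylow.ext (SetLike.ext fun v => ?_)
    rw [hact_mem, hcinv, Sylow.coe_subgroup_smul, Subgroup.mem_pointwise_smul_iff_inv_smul_mem]
    have : c ((g : X)⁻¹) v = g⁻¹ * v * g := Subtype.ext (by rw [hcv]; simp)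
    rw [this]
    simp [MulAut.smul_def, mul_assoc]
  have hact_one : ∀ P : Sylow p K, act 1 P = P := fun P => by
    rw [show (1 : X) = ((1 : K) : X) from rfl, hact_K, one_smul]
  have hact_swap : ∀ (x : X) (g : K) (P : Sylow p K), act x (g • P) = c x g • act x P :=
    fun x g P => by
      rw [← hact_K, ← hact_K, ← hact_mul, ← hact_mul, hcv]
      congr 1
      group
  -- `z` centralises `U` and normalises it
  have hzU : ∀ v ∈ (U : Subgroup K), c z v = v := fun v hv => Subtype.ext (by
    rw [hcv, ← hzc ((hmemU v).1 hv), mul_inv_cancel_right])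
  have hzactU : act z U = U := by
    refine Sylow.ext (SetLike.ext fun v => ?_)
    rw [hact_mem]
    constructor
    · intro h
      have h1 := hzU _ h
      rw [MulEquiv.apply_symm_apply] at h1
      exact h1 ▸ h
    · intro h
      rwa [show (c z).symm v = v from by
        rw [MulEquiv.symm_apply_eq]; exact (hzU v h).symm]
  have hne : act z Q ≠ U := by
    intro e
    apply hQU
    have h1 : act z⁻¹ (act z Q) = act z⁻¹ (act z U) := by rw [e, hzactU]
    rwa [← hact_mul, ← hact_mul, inv_mul_cancel, hact_one, hact_one] at h1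
  obtain ⟨u, hu, huQ⟩ := htr _ hne
  -- `u` is central in `U`
  set w : K := c z b * b⁻¹ with hw
  have hbN : b ∈ Subgroup.normalizer ((U : Subgroup K) : Set K) :=
    Sylow.smul_eq_iff_mem_normalizer.1 hbU
  have hwU : ∀ v ∈ (U : Subgroup K), w * v = v * w := by
    intro v hv
    have h1 : b⁻¹ * v * b ∈ (U : Subgroup K) := by
      simpa using (Subgroup.mem_normalizer_iff.1 (inv_mem hbN) v).1 hv
    have h3 : b * c z (b⁻¹ * v * b) * b⁻¹ = v := by rw [hzU _ h1]; group
    rw [map_mul, map_mul, map_inv, hzU v hv] at h3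
    have h4 : w⁻¹ * v * w = v := by
      rw [hw, show (c z b * b⁻¹)⁻¹ * v * (c z b * b⁻¹) = b * ((c z b)⁻¹ * v * c z b) * b⁻¹ by group]
      exact h3
    calc w * v = w * (w⁻¹ * v * w) := by rw [h4]
      _ = v * w := by group
  -- `w` maps `(b u b⁻¹) • Q` to `u • Q`
  have hwmap : w • ((b * u * b⁻¹) • Q) = u • Q := by
    have h1 : act z (b • Q) = c z b • act z Q := hact_swap z b Q
    rw [hbQ, ← huQ] at h1
    rw [← mul_smul]
    conv_rhs => rw [h1]
    rw [← mul_smul]
    conv_rhs => rw [← mul_one (c z b * u)]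
    rw [show w * (b * u * b⁻¹) = c z b * u * b⁻¹ by rw [hw]; group, mul_one, mul_smul]
    rw [inv_smul_eq_iff.2 hbQ.symm]
  have hbu : b * u * b⁻¹ ∈ (U : Subgroup K) :=
    (Subgroup.mem_normalizer_iff.1 hbN u).1 hu
  have hwN : w • U = U := by
    refine Sylow.smul_eq_iff_mem_normalizer.2 (Subgroup.mem_normalizer_iff.2 fun v => ⟨fun hv => ?_,
      fun hv => ?_⟩)
    · rwa [hwU v hv, mul_inv_cancel_right]
    · have := hwU _ hv
      have h : w * v * w⁻¹ = v := by
        have h2 : w * (w * v * w⁻¹) = w * v := by rw [this]; group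
        exact mul_left_cancel h2
      rwa [h] at hv
  obtain ⟨w0, hw0, hw0Q⟩ := htr (w • Q) (fun e => hQU (smul_left_cancel w (e.trans hwN.symm)))
  have huc : CentralIn (U : Subgroup K) u := by
    -- `w0 = (b u b⁻¹)⁻¹ u`
    have h1 : (b * u * b⁻¹ * w0) • Q = u • Q := by
      rw [mul_smul, hw0Q, ← mul_smul, ← hwU _ hbu, mul_smul, hwmap]
    have hw0e : w0 = (b * u * b⁻¹)⁻¹ * u := by
      have h2 := hfree (u⁻¹ * (b * u * b⁻¹ * w0)) (mul_mem (inv_mem hu) (mul_mem hbu hw0))
        (by rw [mul_smul, h1, inv_smul_smul])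
      rw [inv_mul_eq_one] at h2
      rw [eq_inv_mul_iff_mul_eq]
      exact h2.symm
    set t := w0⁻¹ * w with ht
    have htQ : t • Q = Q := by rw [ht, mul_smul, ← hw0Q, inv_smul_smul]
    have htU : t • U = U := by
      rw [ht, mul_smul, hwN]
      exact Sylow.smul_eq_iff_mem_normalizer.2 (Subgroup.le_normalizer (inv_mem hw0))
    have hto : (orderOf t).Coprime p := by
      rw [Nat.coprime_comm, (Fact.out : p.Prime).coprime_iff_not_dvd]
      intro hd
      obtain ⟨i, hi⟩ := hd
      have hi0 : i ≠ 0 := by rintro rfl; exact (orderOf_pos t).ne' (by simpa using hi)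
      have hord : orderOf (t ^ i) = p := by
        rw [orderOf_pow' t hi0, hi, Nat.gcd_eq_right (dvd_mul_left i p),
          Nat.mul_div_cancel _ (Nat.pos_of_ne_zero hi0)]
      have hN : t ^ i ∈ Subgroup.normalizer ((U : Subgroup K) : Set K) :=
        pow_mem (Sylow.smul_eq_iff_mem_normalizer.1 htU) i
      have hmem : t ^ i ∈ (U : Subgroup K) := by
        have hp : IsPGroup p ↥(Subgroup.zpowers (t ^ i)) :=
          IsPGroup.of_card (n := 1) (by rw [Nat.card_zpowers, hord, pow_one])
        have h := hp.inf_normalizer_sylow U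
        exact (Subgroup.mem_inf.1 (h.le (Subgroup.mem_inf.2
          ⟨Subgroup.mem_zpowers (t ^ i), hN⟩))).2
      have h1' := hfree _ hmem (Sylow.smul_eq_iff_mem_normalizer.2
        (pow_mem (Sylow.smul_eq_iff_mem_normalizer.1 htQ) i))
      rw [h1', orderOf_one] at hord
      exact (Fact.out : p.Prime).one_lt.ne hord
    have hw0c : CentralIn (U : Subgroup K) w0 := by
      refine ⟨hw0, fun v hv => ?_⟩
      have hconj : ∀ n : ℕ, ∀ x ∈ (U : Subgroup K),
          t ^ n * x * (t ^ n)⁻¹ = w0⁻¹ ^ n * x * (w0⁻¹ ^ n)⁻¹ := by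
        intro n
        induction n with
        | zero => intro x _; simp
        | succ n ih =>
          intro x hx
          have hx' : t * x * t⁻¹ = w0⁻¹ * x * w0⁻¹⁻¹ := by
            rw [ht, show w0⁻¹ * w * x * (w0⁻¹ * w)⁻¹ = w0⁻¹ * (w * x * w⁻¹) * w0⁻¹⁻¹ by group,
              hwU x hx, mul_inv_cancel_right]
          rw [pow_succ, pow_succ,
            show t ^ n * t * x * (t ^ n * t)⁻¹ = t ^ n * (t * x * t⁻¹) * (t ^ n)⁻¹ by group, hx',
            ih _ (mul_mem (mul_mem (inv_mem hw0) hx) (inv_mem (inv_mem hw0)))]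
          group
      have h1 := hconj (orderOf t) v hv
      rw [pow_orderOf_eq_one, one_mul, inv_one, mul_one] at h1
      obtain ⟨m, hm⟩ := U.2 ⟨w0⁻¹, inv_mem hw0⟩
      have hm' : w0⁻¹ ^ p ^ m = 1 := congrArg Subtype.val hm
      have hcop2 : (orderOf w0⁻¹).Coprime (orderOf t) :=
        ((hto.symm).pow_left m).coprime_dvd_left (orderOf_dvd_of_pow_eq_one hm')
      have hcomm : v * w0⁻¹ ^ orderOf t = w0⁻¹ ^ orderOf t * v := by
        nth_rewrite 1 [h1]; group
      have hmem : w0⁻¹ ∈ Subgroup.centralizer ({v} : Set K) := by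
        have h2 : w0⁻¹ ^ orderOf t ∈ Subgroup.centralizer ({v} : Set K) :=
          Subgroup.mem_centralizer_singleton_iff.2 hcomm.symm
        obtain ⟨j, hj⟩ := exists_pow_eq_self_of_coprime hcop2.symm
        rw [← hj]
        exact pow_mem h2 j
      exact (Subgroup.mem_centralizer_singleton_iff.1
        (inv_mem_iff.1 hmem : w0 ∈ Subgroup.centralizer ({v} : Set K)))
    refine hk2 u hu ?_
    have : b * u * b⁻¹ * u⁻¹ = w0⁻¹ := by
      have h := hw0c.2 u hu
      calc b * u * b⁻¹ * u⁻¹ = u * ((b * u * b⁻¹)⁻¹ * u)⁻¹ * u⁻¹ := by group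
        _ = u * w0⁻¹ * u⁻¹ := by rw [hw0e]
        _ = w0⁻¹ := by
          rw [← inv_mul_eq_iff_eq_mul.2 (show u = w0 * (u * w0⁻¹) by rw [← mul_assoc, h]; group)]
          group
    rw [this]
    refine ⟨inv_mem hw0c.1, fun v hv => ?_⟩
    have h := hw0c.2 v hv
    exact inv_mul_eq_iff_eq_mul.2 (by rw [← mul_assoc, h]; group)
  -- `z' = u⁻¹ z` centralises `K`
  set z' : X := (u : X)⁻¹ * z with hz'
  have hz'S : z' ∈ (S : Subgroup X) := mul_mem (inv_mem ((hmemU u).1 hu)) hz
  have hz'U : ∀ v ∈ (U : Subgroup K), c z' v = v := by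
    intro v hv
    refine Subtype.ext ?_
    rw [hcv, hz', show (u : X)⁻¹ * z * v * ((u : X)⁻¹ * z)⁻¹ =
      (u : X)⁻¹ * (z * v * z⁻¹) * u by group, ← hcv z v, hzU v hv, mul_assoc]
    have := congrArg Subtype.val (huc.2 v hv)
    simp only [Subgroup.coe_mul] at this
    rw [← this, inv_mul_cancel_left]
  have hz'Q : act z' Q = Q := by
    rw [hz', hact_mul, ← huQ, show (u : X)⁻¹ = ((u⁻¹ : K) : X) from rfl, hact_K, inv_smul_smul]
  have hz'fix : ∀ P : Sylow p K, act z' P = P := by
    intro P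
    by_cases hP : P = U
    · subst hP
      rw [hz', hact_mul, hzactU, show (u : X)⁻¹ = ((u⁻¹ : K) : X) from rfl, hact_K]
      exact Sylow.smul_eq_iff_mem_normalizer.2 (Subgroup.le_normalizer (inv_mem hu))
    · obtain ⟨v, hv, rfl⟩ := htr P hP
      rw [hact_swap, hz'U v hv, hz'Q]
  have hkerconj : ∀ g : K, ∀ P : Sylow p K, act ((g : X) * z' * (g : X)⁻¹) P = P := by
    intro g P
    rw [hact_mul, hact_mul, hz'fix, ← hact_mul, mul_inv_cancel, hact_one]
  have hinvfix : ∀ P : Sylow p K, act z'⁻¹ P = P := fun P => by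
    conv_lhs => rw [← hz'fix P]
    rw [← hact_mul, inv_mul_cancel, hact_one]
  have hzp : ∀ v : K, (∃ n : ℕ, orderOf v = p ^ n) → c z' v = v := by
    rintro v ⟨n, hn⟩
    obtain ⟨P, hP⟩ := (IsPGroup.of_card (p := p) (n := n) (by rw [Nat.card_zpowers, hn]) :
      IsPGroup p ↥(Subgroup.zpowers v)).exists_le_sylow
    have hvP := hP (Subgroup.mem_zpowers v)
    have h1 : c z' v ∈ (P : Subgroup K) := by
      have h := (hact_mem z' P (c z' v)).2 (by rw [MulEquiv.symm_apply_apply]; exact hvP)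
      rwa [hz'fix] at h
    have h2 : c z' v * v⁻¹ ∈ (P : Subgroup K) := mul_mem h1 (inv_mem hvP)
    have h3 : ∀ R : Sylow p K, (c z' v * v⁻¹) • R = R := by
      intro R
      rw [← hact_K, show ((c z' v * v⁻¹ : K) : X) = z' * ((v : X) * z'⁻¹ * (v : X)⁻¹) by
        rw [Subgroup.coe_mul, hcv, Subgroup.coe_inv]; group, hact_mul z', hact_mul ((v : X) * z'⁻¹),
        hact_mul (v : X),
        hinvfix, ← hact_mul (v : X), mul_inv_cancel, hact_one, hz'fix]
    obtain ⟨Q', -, -, hfree', -⟩ := hK.2 P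
    exact mul_inv_eq_one.1 (hfree' _ h2 (h3 Q'))
  have hzall : ∀ v : K, c z' v = v := by
    intro v
    have hv : v ∈ Subgroup.closure {x : K | ∃ n : ℕ, orderOf x = p ^ n} := by
      rw [hK.1]; exact Subgroup.mem_top v
    induction hv using Subgroup.closure_induction with
    | mem a ha => exact hzp a ha
    | one => exact map_one _
    | mul a b _ _ ha hb => rw [map_mul, ha, hb]
    | inv a _ ha => rw [map_inv, ha]
  -- hence `z' ∈ O_p(X) = 1`
  set C := Subgroup.centralizer (K : Set X) with hC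
  haveI hCn : C.Normal := inferInstance
  have hz'C : z' ∈ C := Subgroup.mem_centralizer_iff.2 fun v hv => by
    have := congrArg Subtype.val (hzall ⟨v, hv⟩)
    rw [hcv] at this
    calc v * z' = (z' * v * z'⁻¹) * z' := by rw [this]
      _ = z' * v := by group
  obtain ⟨T, hT⟩ := CfsgLib.LocalEvenBasic.exists_sylow_map_eq_inf S C
  have hTn : (T : Subgroup C).Normal := by
    refine ⟨fun x hx g => ?_⟩
    obtain ⟨n, hn⟩ := hidx (g : X)
    -- `T` centralises `C ⊓ K`
    have hgN : g ∈ Subgroup.normalizer ((T : Subgroup C) : Set C) := by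
      have hcent : ∀ a : C, (a : X) ∈ K → ∀ y : C, a * y = y * a := fun a ha y => Subtype.ext
        (Subgroup.mem_centralizer_iff.1 y.2 a ha)
      obtain ⟨m, hm⟩ := hidx (g : X)
      set N := Subgroup.normalizer ((T : Subgroup C) : Set C) with hN
      have hKN : ∀ a : C, (a : X) ∈ K → a ∈ N := fun a ha =>
        Subgroup.mem_normalizer_iff.2 fun y => by
          rw [hcent a ha y, mul_inv_cancel_right]
      have hgp : g ^ p ^ m ∈ N := hKN _ (by rw [SubmonoidClass.coe_pow]; exact hm)
      -- `N` has index prime to `p`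
      let K₀ : Subgroup C := K.subgroupOf C
      have htop : (T : Subgroup C) ⊔ K₀ = ⊤ := by
        have hq : ∀ y : C, ∃ j : ℕ, y ^ p ^ j ∈ K₀ := fun y => by
          obtain ⟨j, hj⟩ := hidx (y : X)
          exact ⟨j, by rw [Subgroup.mem_subgroupOf, SubmonoidClass.coe_pow]; exact hj⟩
        haveI : K₀.Normal := inferInstance
        have hQp : IsPGroup p (C ⧸ K₀) := fun y => by
          induction y using QuotientGroup.induction_on with
          | H y =>
            obtain ⟨j, hj⟩ := hq y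
            exact ⟨j, by rw [← QuotientGroup.mk_pow]; exact (QuotientGroup.eq_one_iff _).2 hj⟩
        have hd1 : ((T : Subgroup C) ⊔ K₀).index ∣ K₀.index := Subgroup.index_dvd_of_le le_sup_right
        have hd2 : ((T : Subgroup C) ⊔ K₀).index ∣ (T : Subgroup C).index :=
          Subgroup.index_dvd_of_le le_sup_left
        obtain ⟨j, hj⟩ := IsPGroup.iff_card.1 hQp
        rw [← Subgroup.index_eq_card] at hj
        rw [← Subgroup.index_eq_one]
        exact Nat.eq_one_of_dvd_coprimes
          (((Fact.out : p.Prime).coprime_iff_not_dvd.2 T.not_dvd_index).pow_left j)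
          (hj ▸ hd1) hd2
      have hle : (T : Subgroup C) ⊔ K₀ ≤ N := sup_le Subgroup.le_normalizer fun a ha => hKN a ha
      rw [htop] at hle
      exact hle (Subgroup.mem_top g)
    exact (Subgroup.mem_normalizer_iff.1 hgN x).1 hx
  have hchar : ((T : Subgroup C).map C.subtype).Normal := by
    haveI := T.characteristic_of_normal hTn
    infer_instance
  have hz'1 : z' = 1 := by
    have h1 : z' ∈ (T : Subgroup C).map C.subtype := hT ▸ ⟨hz'S, hz'C⟩
    have h2 := (CfsgLib.Solvable.le_pCore (hn := hchar) (T.2.map C.subtype)) h1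
    rwa [hX, Subgroup.mem_bot] at h2
  have hzu : z = u := by rw [hz', inv_mul_eq_one] at hz'1; exact hz'1.symm
  -- the element `b`
  set R := Subgroup.centralizer ({z} : Set X) with hR
  have hSR : (S : Subgroup X) ≤ R := fun s hs => Subgroup.mem_centralizer_singleton_iff.2 (hzc hs)
  have hbS : ∀ s ∈ (S : Subgroup X), (b : X) * s * (b : X)⁻¹ ∈ R := by
    intro s hs
    have hsU : ∀ v, CentralIn (U : Subgroup K) v → CentralIn (U : Subgroup K) (c s v) := by
      intro v hv
      have hsv : ∀ {x : K}, x ∈ (U : Subgroup K) → c s x ∈ (U : Subgroup K) := fun {x} hx => by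
        rw [hmemU, hcv]
        exact mul_mem (mul_mem hs ((hmemU x).1 hx)) (inv_mem hs)
      refine ⟨hsv hv.1, fun x hx => ?_⟩
      have hx' : c s⁻¹ x ∈ (U : Subgroup K) := by
        rw [hmemU, hcv]
        exact mul_mem (mul_mem (inv_mem hs) ((hmemU x).1 hx)) (by rw [inv_inv]; exact hs)
      have he : c s (c s⁻¹ x) = x := Subtype.ext (by simp only [hcv]; group)
      calc c s v * x = c s (v * c s⁻¹ x) := by rw [map_mul, he]
        _ = x * c s v := by rw [hv.2 _ hx', map_mul, he]
    have hbsb : ∀ v, CentralIn (U : Subgroup K) v →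
        (b : X)⁻¹ * ((b : X) * v * (b : X)⁻¹) * b = v := fun v _ => by group
    rw [Subgroup.mem_centralizer_singleton_iff, hzu]
    -- `b⁻¹ u b` is fixed by `s`
    have hbinv : CentralIn (U : Subgroup K) (b⁻¹ * u * b) := by
      have hbi : ∀ {x : K}, x ∈ (U : Subgroup K) → b⁻¹ * x * b ∈ (U : Subgroup K) := fun {x} hx => by
        simpa using (Subgroup.mem_normalizer_iff.1 (inv_mem hbN) x).1 hx
      refine ⟨hbi hu, fun x hx => ?_⟩
      have hbx : b * x * b⁻¹ ∈ (U : Subgroup K) := (Subgroup.mem_normalizer_iff.1 hbN x).1 hx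
      calc b⁻¹ * u * b * x = b⁻¹ * (u * (b * x * b⁻¹)) * b := by group
        _ = x * (b⁻¹ * u * b) := by rw [huc.2 _ hbx]; group
    set v := b⁻¹ * u * b with hv
    have hvu : v ^ k = u := by rw [← (hk1 v hbinv).1, hv]; group
    have h1 := (hk1 _ (hsU v hbinv)).1
    rw [← map_pow, hvu] at h1
    have h2 : c s u = u := Subtype.ext (by
      rw [hcv]
      have := hzc hs
      rw [hzu] at this
      rw [this, mul_inv_cancel_right])
    rw [h2] at h1
    have h3 := congrArg Subtype.val h1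
    simp only [Subgroup.coe_mul, Subgroup.coe_inv, hcv, hv] at h3
    calc (b : X) * s * (b : X)⁻¹ * u
        = ((b : X) * (s * ((b : X)⁻¹ * u * b) * s⁻¹) * (b : X)⁻¹) * ((b : X) * s * (b : X)⁻¹) := by
          group
      _ = u * ((b : X) * s * (b : X)⁻¹) := by rw [h3]
  let bS : Sylow p X := (b : X) • S
  have hbSR : (bS : Subgroup X) ≤ R := by
    intro y hy
    rw [Sylow.coe_subgroup_smul, Subgroup.mem_pointwise_smul_iff_inv_smul_mem] at hy
    have := hbS _ hy
    simpa [MulAut.smul_def, mul_assoc] using this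
  obtain ⟨r, hr⟩ := MulAction.exists_smul_eq R (bS.subtype hbSR) (S.subtype hSR)
  have hrS : (r : X) • bS = S := by
    rw [Sylow.smul_subtype] at hr
    exact Sylow.subtype_injective hr
  have hn : (r : X) * (b : X) ∈ Subgroup.normalizer ((S : Subgroup X) : Set X) :=
    Sylow.smul_eq_iff_mem_normalizer.1 (by rw [mul_smul]; exact hrS)
  have h1 := hc _ hn
  have hrz := Subgroup.mem_centralizer_singleton_iff.1 r.2
  have h2 : (b : X) * z * (b : X)⁻¹ = z := by
    have h3 : (b : X) * z = z * b := by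
      refine mul_left_cancel (a := (r : X)) ?_
      rw [← mul_assoc, h1, ← mul_assoc, ← mul_assoc, hrz]
    rw [h3, mul_inv_cancel_right]
  have h3 : b * u * b⁻¹ = u := Subtype.ext (by rw [hzu] at h2; exact h2)
  obtain ⟨h4, h5⟩ := hk1 u huc
  rw [hzu, h5 (h4.symm.trans h3), OneMemClass.coe_one]

end CfsgLib.RankOneP
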