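import Cfsg.Agent.LocalEvenBasic.RankOneP.Abstract

/-!
# Tools for the models
-/

set_option autoImplicit false

namespace CfsgLib.RankOneP

variable {p : ℕ} [Fact p.Prime]

/-- A root of unity of `p`-power order in characteristic `p` is trivial. -/
theorem field_eq_one {F : Type*} [Field F] [CharP F p] {a : F} {n : ℕ} (h : a ^ p ^ n = 1) :
    a = 1 := by
  have h1 : (a - 1) ^ p ^ n = 0 := by rw [sub_pow_char_pow, h, one_pow, sub_self]
  exact sub_eq_zero.1 (pow_eq_zero_iff (pow_ne_zero n (Fact.out : p.Prime).ne_zero) |>.1 h1)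

/-- A `p`-subgroup containing the `p`-elements of its normaliser is a Sylow subgroup. -/
theorem exists_sylow_eq {K : Type*} [Group K] [Finite K] (U : Subgroup K) (hU : IsPGroup p U)
    (h : ∀ g ∈ Subgroup.normalizer (U : Set K), ∀ n : ℕ, g ^ p ^ n = 1 → g ∈ U) :
    ∃ P : Sylow p K, (P : Subgroup K) = U := by
  obtain ⟨P, hP⟩ := hU.exists_le_sylow
  refine ⟨P, le_antisymm ?_ hP⟩
  by_contra hne
  have hlt : U.subgroupOf (P : Subgroup K) < ⊤ :=
    lt_top_iff_ne_top.2 fun e => hne (Subgroup.subgroupOf_eq_top.1 e)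
  haveI : Group.IsNilpotent (P : Subgroup K) := P.2.isNilpotent
  obtain ⟨x, hx, hxU⟩ :=
    SetLike.exists_of_lt (normalizerCondition_of_isNilpotent _ hlt)
  obtain ⟨n, hn⟩ := P.2 x
  refine hxU (Subgroup.mem_subgroupOf.2 (h x (Subgroup.mem_normalizer_iff.2 fun y => ⟨fun hy => ?_,
    fun hy => ?_⟩) n (congrArg Subtype.val hn)))
  · exact Subgroup.mem_subgroupOf.1 ((Subgroup.mem_normalizer_iff.1 hx ⟨y, hP hy⟩).1
      (Subgroup.mem_subgroupOf.2 hy))
  · have hyP : y ∈ (P : Subgroup K) := by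
      have := mul_mem (mul_mem (inv_mem x.2) (hP hy)) x.2
      rwa [show (x : K)⁻¹ * ((x : K) * y * (x : K)⁻¹) * x = y by group] at this
    exact Subgroup.mem_subgroupOf.1 ((Subgroup.mem_normalizer_iff.1 hx ⟨y, hyP⟩).2
      (Subgroup.mem_subgroupOf.2 hy))

/-- A power map `v ↦ v ^ k` with `k - 1` prime to `p` has no fixed point on a `p`-group. -/
theorem eq_one_of_pow_eq_self {K : Type*} [Group K] {k : ℕ} (hk : k.Coprime p) {v : K} {n : ℕ}
    (hn : v ^ p ^ n = 1) (h : v ^ (k + 1) = v) : v = 1 := by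
  have h1 : v ^ k = 1 := by
    rw [pow_succ] at h
    exact mul_eq_right.1 h
  exact orderOf_eq_one_iff.1 (Nat.eq_one_of_dvd_coprimes (hk.pow_right n)
    (orderOf_dvd_of_pow_eq_one h1) (orderOf_dvd_of_pow_eq_one hn))

/-- A unipotent matrix of index at most three has order dividing `p`. -/
theorem pow_prime_eq_one {F ι : Type*} [Field F] [CharP F p] [Fintype ι] [DecidableEq ι]
    (hp : 3 ≤ p) (M : Matrix ι ι F) (h : (M - 1) ^ 3 = 0) : M ^ p = 1 := by
  cases isEmpty_or_nonempty ι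
  · exact Subsingleton.elim _ _
  · have h1 : (M - 1) ^ p = M ^ p - 1 ^ p := sub_pow_char_of_commute p (Commute.one_right M)
    rw [pow_eq_zero_of_le hp h, one_pow] at h1
    exact (sub_eq_zero.1 h1.symm)

end CfsgLib.RankOneP
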